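import Groth.Agent.Pinch2.MapRing
import Mathlib

/-!
Morphisms of fibre product squares of rings, cartesian over both factors (Ferrand): they are cocartesian
over both projections, and quasi-finiteness is detected on the factors.
-/

set_option autoImplicit false
set_option linter.style.haveILetI false
set_option backward.isDefEq.respectTransparency.types false

universe u

open CategoryTheory CategoryTheory.Limits TensorProduct

namespace Groth.Agent.Hopf35.Ferrand

open Pinch2

section Algebra

variable {R A B C R' A' B' C' : Type u} [CommRing R] [CommRing A] [CommRing B] [CommRing C]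
  [CommRing R'] [CommRing A'] [CommRing B'] [CommRing C']
  [Algebra R A] [Algebra R B] [Algebra R C] [Algebra A C] [Algebra B C]
  [IsScalarTower R A C] [IsScalarTower R B C]
  [Algebra R R'] [Algebra A A'] [Algebra B B'] [Algebra C C']
  [Algebra R' A'] [Algebra R' B'] [Algebra R' C'] [Algebra A' C'] [Algebra B' C']
  [IsScalarTower R' A' C'] [IsScalarTower R' B' C']
  [Algebra R A'] [IsScalarTower R A A'] [IsScalarTower R R' A']
  [Algebra R B'] [IsScalarTower R B B'] [IsScalarTower R R' B']
  [Algebra A C'] [IsScalarTower A C C'] [IsScalarTower A A' C']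
  [Algebra B C'] [IsScalarTower B C C'] [IsScalarTower B B' C']

/-- The functions on the new square are a fibre product, those on the old square are one, and both
factors are cocartesian: then so are both projections. -/
theorem isPushout_both
    (hf : Function.Surjective (algebraMap A C))
    (h : ∀ (x : A) (y : B), algebraMap A C x = algebraMap B C y →
      ∃ s : R, algebraMap R A s = x ∧ algebraMap R B s = y)
    (h' : ∀ (x : A') (y : B'), algebraMap A' C' x = algebraMap B' C' y →
      ∃ s : R', algebraMap R' A' s = x ∧ algebraMap R' B' s = y)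
    (huniq : ∀ s t : R', algebraMap R' A' s = algebraMap R' A' t → algebraMap R' B' s = algebraMap R' B' t → s = t)
    [pA : Algebra.IsPushout A C A' C'] [pB : Algebra.IsPushout B C B' C'] :
    Algebra.IsPushout R A R' A' ∧ Algebra.IsPushout R B R' B' := by
  classical
  haveI pA' : Algebra.IsPushout A A' C C' := pA.symm
  have hf' : Function.Surjective (algebraMap A' C') := fun c => by
    obtain ⟨t, rfl⟩ := (Algebra.IsPushout.equiv A A' C C').surjective c
    induction t using TensorProduct.induction_on with
    | zero => exact ⟨0, by simp⟩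
    | tmul a c =>
      obtain ⟨a₀, rfl⟩ := hf c
      refine ⟨a * algebraMap A A' a₀, ?_⟩
      rw [Algebra.IsPushout.equiv_tmul, map_mul, ← IsScalarTower.algebraMap_apply, ← IsScalarTower.algebraMap_apply]
    | add u v hu hv =>
      obtain ⟨a, ha⟩ := hu
      obtain ⟨b, hb⟩ := hv
      exact ⟨a + b, by rw [map_add, map_add, ha, hb]⟩
  have hφb : Function.Surjective (algebraMap R B) := fun y => by
    obtain ⟨x, hx⟩ := hf (algebraMap B C y)
    obtain ⟨s, -, hs⟩ := h x y hx
    exact ⟨s, hs⟩
  have hφb' : Function.Surjective (algebraMap R' B') := fun y => by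
    obtain ⟨x, hx⟩ := hf' (algebraMap B' C' y)
    obtain ⟨s, -, hs⟩ := h' x y hx
    exact ⟨s, hs⟩
  have hkerA : ∀ a' : A', algebraMap A' C' a' = 0 → a' ∈ (RingHom.ker (algebraMap A C)).map (algebraMap A A') := by
    intro a' ha'
    have hsq : CommRingCat.ofHom (algebraMap A C) ≫ CommRingCat.ofHom (algebraMap C C') =
        CommRingCat.ofHom (algebraMap A A') ≫ CommRingCat.ofHom (algebraMap A' C') :=
      CommRingCat.hom_ext (by
        simp only [CommRingCat.hom_comp, CommRingCat.hom_ofHom, ← IsScalarTower.algebraMap_eq])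
    exact Pinch2.mem_map_ker_of_isPushout (g := CommRingCat.ofHom (algebraMap A C))
      (β := CommRingCat.ofHom (algebraMap A A')) (γ := CommRingCat.ofHom (algebraMap C C'))
      (g' := CommRingCat.ofHom (algebraMap A' C'))
      ((CommRingCat.isPushout_iff_isPushout (R := CommRingCat.of A) (R' := CommRingCat.of C)
        (S := CommRingCat.of A') (S' := CommRingCat.of C')).2 pA) hf ha'
  -- the span
  let Sp : Submodule A A' := Submodule.span A (Set.range (algebraMap R' A'))
  have hrange : ∀ x, algebraMap A' C' x = 0 → x ∈ Sp := fun x hx => by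
    obtain ⟨s, hs, -⟩ := h' x 0 (by rw [hx, map_zero])
    exact Submodule.subset_span ⟨s, hs⟩
  have hspan : ∀ a' : A', a' ∈ Sp := by
    intro a'
    suffices hc : ∀ c : C', ∃ x ∈ Sp, algebraMap A' C' x = c by
      obtain ⟨x, hx, hxe⟩ := hc (algebraMap A' C' a')
      have := Sp.add_mem hx (hrange (a' - x) (by rw [map_sub, hxe, sub_self]))
      rwa [add_sub_cancel] at this
    intro c
    obtain ⟨t, rfl⟩ := (Algebra.IsPushout.equiv B C B' C').surjective c
    induction t using TensorProduct.induction_on with
    | zero => exact ⟨0, Sp.zero_mem, by simp⟩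
    | add u v hu hv =>
      obtain ⟨x, hx, hxe⟩ := hu
      obtain ⟨y, hy, hye⟩ := hv
      exact ⟨x + y, Sp.add_mem hx hy, by rw [map_add, map_add, hxe, hye]⟩
    | tmul c b' =>
      obtain ⟨a, rfl⟩ := hf c
      obtain ⟨r, rfl⟩ := hφb' b'
      refine ⟨a • algebraMap R' A' r, Sp.smul_mem _ (Submodule.subset_span ⟨r, rfl⟩), ?_⟩
      rw [Algebra.IsPushout.equiv_tmul, Algebra.smul_def, map_mul, ← IsScalarTower.algebraMap_apply A A' C',
        IsScalarTower.algebraMap_apply A C C', ← IsScalarTower.algebraMap_apply R' A' C',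
        ← IsScalarTower.algebraMap_apply R' B' C']
  -- the projection to the second factor
  let J := (RingHom.ker (algebraMap R B)).map (algebraMap R R')
  have hJ : ∀ r ∈ J, algebraMap R' B' r = 0 := fun r hr =>
    (Ideal.map_le_iff_le_comap.2 (fun s hs => by
      show algebraMap R' B' (algebraMap R R' s) = 0
      rw [← IsScalarTower.algebraMap_apply, IsScalarTower.algebraMap_apply R B B', RingHom.mem_ker.1 hs, map_zero]) :
      J ≤ RingHom.ker (algebraMap R' B')) hr
  have hk : ∀ k, algebraMap A C k = 0 → ∀ a' : A', ∃ r ∈ J, algebraMap R' A' r = algebraMap A A' k * a' := by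
    intro k hk a'
    induction hspan a' using Submodule.span_induction generalizing k with
    | mem x hx =>
      obtain ⟨r, rfl⟩ := hx
      obtain ⟨s, hs, hs'⟩ := h k 0 (by rw [hk, map_zero])
      refine ⟨algebraMap R R' s * r, Ideal.mul_mem_right _ _ (Ideal.mem_map_of_mem _ (RingHom.mem_ker.2 hs')), ?_⟩
      rw [map_mul, ← IsScalarTower.algebraMap_apply, IsScalarTower.algebraMap_apply R A A', hs]
    | zero => exact ⟨0, J.zero_mem, by simp⟩
    | add x y _ _ hx hy =>
      obtain ⟨r, hr, hre⟩ := hx k hk
      obtain ⟨t, ht, hte⟩ := hy k hk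
      exact ⟨r + t, J.add_mem hr ht, by rw [map_add, hre, hte, mul_add]⟩
    | smul a x _ hx =>
      obtain ⟨r, hr, hre⟩ := hx (k * a) (by rw [map_mul, hk, zero_mul])
      exact ⟨r, hr, by rw [hre, Algebra.smul_def, map_mul, mul_assoc]⟩
  have hkerB : ∀ r : R', algebraMap R' B' r = 0 → r ∈ J := by
    intro r hr
    have h0 : algebraMap A' C' (algebraMap R' A' r) = 0 := by
      rw [← IsScalarTower.algebraMap_apply, IsScalarTower.algebraMap_apply R' B' C', hr, map_zero]
    suffices ∀ x ∈ (RingHom.ker (algebraMap A C)).map (algebraMap A A'), ∃ t ∈ J, algebraMap R' A' t = x by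
      obtain ⟨t, ht, hte⟩ := this _ (hkerA _ h0)
      rwa [huniq r t hte.symm (by rw [hr, hJ t ht])]
    intro x hx
    induction hx using Submodule.span_induction with
    | mem x hx =>
      obtain ⟨k, hk', rfl⟩ := hx
      simpa using hk k (RingHom.mem_ker.1 hk') 1
    | zero => exact ⟨0, J.zero_mem, map_zero _⟩
    | add x y _ _ hx hy =>
      obtain ⟨r, hr, hre⟩ := hx
      obtain ⟨t, ht, hte⟩ := hy
      exact ⟨r + t, J.add_mem hr ht, by rw [map_add, hre, hte]⟩
    | smul a' x hx' hx =>
      clear hx
      induction hx' using Submodule.span_induction generalizing a' with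
      | mem x hx =>
        obtain ⟨k, hk', rfl⟩ := hx
        obtain ⟨r, hr, hre⟩ := hk k (RingHom.mem_ker.1 hk') a'
        exact ⟨r, hr, by rw [hre, smul_eq_mul, mul_comm]⟩
      | zero => exact ⟨0, J.zero_mem, by simp⟩
      | add x y _ _ hx hy =>
        obtain ⟨r, hr, hre⟩ := hx a'
        obtain ⟨t, ht, hte⟩ := hy a'
        exact ⟨r + t, J.add_mem hr ht, by rw [map_add, hre, hte, smul_add]⟩
      | smul b x _ hx =>
        obtain ⟨r, hr, hre⟩ := hx (a' * b)
        exact ⟨r, hr, by rw [hre, smul_smul]⟩
  have pushB : Algebra.IsPushout R B R' B' := by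
    have hcat : IsPushout (CommRingCat.ofHom (algebraMap R B)) (CommRingCat.ofHom (algebraMap R R'))
        (CommRingCat.ofHom (algebraMap B B')) (CommRingCat.ofHom (algebraMap R' B')) :=
      Pinch2.isPushout_of_surjective (CommRingCat.hom_ext (by
        simp only [CommRingCat.hom_comp, CommRingCat.hom_ofHom, ← IsScalarTower.algebraMap_eq])) hφb hφb' hkerB
    exact (CommRingCat.isPushout_iff_isPushout (R := CommRingCat.of R) (R' := CommRingCat.of B)
      (S := CommRingCat.of R') (S' := CommRingCat.of B')).1 hcat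
  refine ⟨?_, pushB⟩
  -- the projection to the first factor
  letI : Algebra R C' := ((algebraMap A C').comp (algebraMap R A)).toAlgebra
  haveI : IsScalarTower R A C' := IsScalarTower.of_algebraMap_eq fun _ => rfl
  haveI : IsScalarTower R C C' := IsScalarTower.of_algebraMap_eq fun r => by
    rw [IsScalarTower.algebraMap_apply R A C, ← IsScalarTower.algebraMap_apply A C C']
    rfl
  haveI : IsScalarTower R B C' := IsScalarTower.of_algebraMap_eq fun r => by
    rw [IsScalarTower.algebraMap_apply R C C', IsScalarTower.algebraMap_apply R B C,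
      ← IsScalarTower.algebraMap_apply B C C']
  haveI : IsScalarTower R B' C' := IsScalarTower.of_algebraMap_eq fun r => by
    rw [IsScalarTower.algebraMap_apply R B B', ← IsScalarTower.algebraMap_apply B B' C',
      ← IsScalarTower.algebraMap_apply R B C']
  haveI : IsScalarTower R R' C' := IsScalarTower.of_algebraMap_eq fun r => by
    rw [IsScalarTower.algebraMap_apply R' B' C', ← IsScalarTower.algebraMap_apply R R' B',
      ← IsScalarTower.algebraMap_apply R B' C']
  haveI := pushB
  haveI pRC : Algebra.IsPushout R C R' C' :=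
    (Algebra.IsPushout.comp_iff (R := R) (S := B) (T := C) (R' := R') (S' := B') (T' := C')).2 inferInstance
  let μ : A ⊗[R] R' →ₐ[A] A' :=
    Algebra.TensorProduct.lift (Algebra.ofId A A') (IsScalarTower.toAlgHom R R' A') fun _ _ => .all _ _
  have hμt : ∀ (a : A) (r : R'), μ (a ⊗ₜ r) = algebraMap A A' a * algebraMap R' A' r := fun a r =>
    Algebra.TensorProduct.lift_tmul _ _ _ _ _
  have hsurj : Function.Surjective μ := fun a' => by
    induction hspan a' using Submodule.span_induction with
    | mem x hx =>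
      obtain ⟨r, rfl⟩ := hx
      exact ⟨1 ⊗ₜ r, by rw [hμt, map_one, one_mul]⟩
    | zero => exact ⟨0, map_zero μ⟩
    | add x y _ _ hx hy =>
      obtain ⟨u, hu⟩ := hx
      obtain ⟨v, hv⟩ := hy
      exact ⟨u + v, by rw [map_add, hu, hv]⟩
    | smul a x _ hx =>
      obtain ⟨u, hu⟩ := hx
      exact ⟨a • u, by rw [map_smul, hu]⟩
  have hinj : Function.Injective μ := by
    refine (injective_iff_map_eq_zero μ).2 fun t ht => ?_
    let F := (IsScalarTower.toAlgHom R A C).toLinearMap.rTensor R'
    have hcomm : ∀ z : A ⊗[R] R', algebraMap A' C' (μ z) = Algebra.IsPushout.equiv R C R' C' (F z) := fun z => by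
      induction z using TensorProduct.induction_on with
      | zero => simp
      | add u v hu hv => simp only [map_add, hu, hv]
      | tmul a r =>
        show algebraMap A' C' (μ (a ⊗ₜ r)) = Algebra.IsPushout.equiv R C R' C' (algebraMap A C a ⊗ₜ r)
        rw [hμt, Algebra.IsPushout.equiv_tmul, map_mul, ← IsScalarTower.algebraMap_apply A A' C',
          ← IsScalarTower.algebraMap_apply A C C', ← IsScalarTower.algebraMap_apply R' A' C']
    have hF : F t = 0 := (Algebra.IsPushout.equiv R C R' C').injective (by rw [← hcomm, ht, map_zero, map_zero])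
    let K : Submodule R A := LinearMap.ker (IsScalarTower.toAlgHom R A C).toLinearMap
    obtain ⟨u, hu⟩ := (rTensor_exact R' (f := K.subtype) (LinearMap.exact_subtype_ker_map _) hf t).1 hF
    have key : ∀ w : K ⊗[R] R', ∃ r : R', K.subtype.rTensor R' w = (1 : A) ⊗ₜ[R] r ∧ algebraMap R' B' r = 0 := by
      intro w
      induction w using TensorProduct.induction_on with
      | zero => exact ⟨0, by simp, map_zero _⟩
      | add u v hu hv =>
        obtain ⟨a, ha, ha'⟩ := hu
        obtain ⟨b, hb, hb'⟩ := hv
        exact ⟨a + b, by rw [map_add, ha, hb, tmul_add], by rw [map_add, ha', hb', add_zero]⟩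
      | tmul k r =>
        obtain ⟨s, hs, hs'⟩ := h k.1 0 (by rw [map_zero]; exact k.2)
        refine ⟨s • r, ?_, ?_⟩
        · show (k : A) ⊗ₜ[R] r = _
          rw [← hs, Algebra.algebraMap_eq_smul_one, smul_tmul]
        · rw [Algebra.smul_def, map_mul, ← IsScalarTower.algebraMap_apply R R' B',
            IsScalarTower.algebraMap_apply R B B', hs', map_zero, zero_mul]
    obtain ⟨r, hr, hrB⟩ := key u
    rw [hu] at hr
    subst hr
    have hrA : algebraMap R' A' r = 0 := by simpa [hμt] using ht
    rw [huniq r 0 (by rw [hrA, map_zero]) (by rw [hrB, map_zero]), tmul_zero]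
  exact Algebra.IsPushout.mk (IsBaseChange.of_equiv (LinearEquiv.ofBijective μ.toLinearMap ⟨hinj, hsurj⟩) fun r => by
    show μ (1 ⊗ₜ r) = _
    rw [hμt, map_one, one_mul]
    rfl)

/-- Quasi-finiteness is detected on the two factors of a fibre product. -/
theorem quasiFinite_of_square (hf : Function.Surjective (algebraMap A C))
    (h : ∀ (x : A) (y : B), algebraMap A C x = algebraMap B C y →
      ∃ s : R, algebraMap R A s = x ∧ algebraMap R B s = y)
    (huniq : ∀ s t : R, algebraMap R A s = algebraMap R A t → algebraMap R B s = algebraMap R B t → s = t)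
    [pA : Algebra.IsPushout R A R' A'] [pB : Algebra.IsPushout R B R' B']
    [Algebra.QuasiFinite A A'] [Algebra.QuasiFinite B B'] : Algebra.QuasiFinite R R' := by
  classical
  constructor
  intro P _
  -- a point of one of the factors over `P`
  have descend : ∀ (E E' : Type u) [CommRing E] [CommRing E'] [Algebra R E] [Algebra E E'] [Algebra R' E']
      [Algebra R E'] [IsScalarTower R E E'] [IsScalarTower R R' E'] [Algebra.IsPushout R E R' E']
      [Algebra.QuasiFinite E E'] (x : Ideal E) [x.IsPrime], x.comap (algebraMap R E) = P →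
      Module.Finite P.ResidueField (P.Fiber R') := by
    intro E E' _ _ _ _ _ _ _ _ _ _ x _ hx
    let κ := P.ResidueField
    let L := x.ResidueField
    letI : Algebra κ L := (Ideal.ResidueField.mapₐ P x (Algebra.ofId R E) hx.symm).toRingHom.toAlgebra
    haveI : IsScalarTower R κ L :=
      IsScalarTower.of_algHom (Ideal.ResidueField.mapₐ P x (Algebra.ofId R E) hx.symm)
    haveI hfinE : Module.Finite L (L ⊗[E] E') := Algebra.QuasiFinite.finite_fiber x
    haveI : Module.Finite L (L ⊗[κ] (κ ⊗[R] R')) := Module.Finite.equiv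
      (((Algebra.IsPushout.equiv R E R' E').toLinearEquiv.baseChange E L _ _).symm.trans
        ((AlgebraTensorModule.cancelBaseChange R E L L R').trans
          (AlgebraTensorModule.cancelBaseChange R κ L L R').symm))
    exact Module.Finite.of_finite_tensorProduct_of_faithfullyFlat L
  by_cases hP : RingHom.ker (algebraMap R B) ≤ P
  · have hφb : Function.Surjective (algebraMap R B) := fun y => by
      obtain ⟨x, hx⟩ := hf (algebraMap B C y)
      obtain ⟨s, -, hs⟩ := h x y hx
      exact ⟨s, hs⟩
    haveI := Ideal.map_isPrime_of_surjective hφb hP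
    exact descend B B' (P.map (algebraMap R B))
      ((Ideal.comap_map_of_surjective' _ hφb P).trans (sup_eq_left.2 hP))
  · obtain ⟨s, hs, hsP⟩ := SetLike.not_le_iff_exists.1 hP
    rw [RingHom.mem_ker] at hs
    have hcm : (P.map (algebraMap R A)).comap (algebraMap R A) = P := by
      refine le_antisymm (fun t ht => ?_) Ideal.le_comap_map
      suffices ∀ a ∈ P.map (algebraMap R A), ∀ b : A,
          ∃ p ∈ P, algebraMap R A p = algebraMap R A s * (b * a) ∧ algebraMap R B p = 0 by
        obtain ⟨p, hp, hpA, hpB⟩ := this _ ht 1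
        have : s * t = p := huniq _ _ (by rw [map_mul, hpA, one_mul]) (by rw [map_mul, hs, zero_mul, hpB])
        exact ((‹P.IsPrime›).mem_or_mem (this ▸ hp)).resolve_left hsP
      intro a ha
      induction ha using Submodule.span_induction with
      | mem a ha =>
        obtain ⟨p, hp, rfl⟩ := ha
        intro b
        obtain ⟨u, hu, huB⟩ := h (algebraMap R A s * b) 0 (by
          rw [map_mul, ← IsScalarTower.algebraMap_apply R A C, IsScalarTower.algebraMap_apply R B C, hs, map_zero,
            zero_mul])
        exact ⟨u * p, P.mul_mem_left _ hp, by rw [map_mul, hu, mul_assoc], by rw [map_mul, huB, zero_mul]⟩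
      | zero => exact fun b => ⟨0, P.zero_mem, by simp, map_zero _⟩
      | add x y _ _ hx hy =>
        intro b
        obtain ⟨p, hp, hpA, hpB⟩ := hx b
        obtain ⟨q, hq, hqA, hqB⟩ := hy b
        exact ⟨p + q, P.add_mem hp hq, by rw [map_add, hpA, hqA, mul_add, mul_add],
          by rw [map_add, hpB, hqB, add_zero]⟩
      | smul c x _ hx =>
        intro b
        obtain ⟨p, hp, hpA, hpB⟩ := hx (b * c)
        exact ⟨p, hp, by rw [hpA, smul_eq_mul, mul_assoc], hpB⟩
    obtain ⟨z, hz⟩ := (PrimeSpectrum.mem_range_comap_iff (f := algebraMap R A) (p := ⟨P, inferInstance⟩)).2 hcm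
    exact descend A A' z.asIdeal (congrArg PrimeSpectrum.asIdeal hz)

end Algebra

/-- Ferrand: both projections are cocartesian. -/
theorem FibProp.isPushout_both {R A B C R' A' B' C' : CommRingCat.{u}}
    {φa : R ⟶ A} {φb : R ⟶ B} {f : A ⟶ C} {g : B ⟶ C}
    {φa' : R' ⟶ A'} {φb' : R' ⟶ B'} {f' : A' ⟶ C'} {g' : B' ⟶ C'}
    {ρ : R ⟶ R'} {α : A ⟶ A'} {β : B ⟶ B'} {γ : C ⟶ C'}
    (hw : φa ≫ f = φb ≫ g) (h : FibProp φa φb f g) (hw' : φa' ≫ f' = φb' ≫ g') (h' : FibProp φa' φb' f' g')
    (hf : Function.Surjective f) (ha : φa ≫ α = ρ ≫ φa') (hb : φb ≫ β = ρ ≫ φb')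
    (pf : IsPushout f α γ f') (pg : IsPushout g β γ g') :
    IsPushout φa ρ α φa' ∧ IsPushout φb ρ β φb' := by
  algebraize [φa.hom, φb.hom, f.hom, g.hom, f.hom.comp φa.hom, ρ.hom, α.hom, β.hom, γ.hom, φa'.hom, φb'.hom,
    f'.hom, g'.hom, f'.hom.comp φa'.hom, α.hom.comp φa.hom, β.hom.comp φb.hom, γ.hom.comp f.hom, γ.hom.comp g.hom]
  haveI : IsScalarTower R B C := IsScalarTower.of_algebraMap_eq' congr($(hw).hom)
  haveI : IsScalarTower R' B' C' := IsScalarTower.of_algebraMap_eq' congr($(hw').hom)
  haveI : IsScalarTower R R' A' := IsScalarTower.of_algebraMap_eq' congr($(ha).hom)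
  haveI : IsScalarTower R R' B' := IsScalarTower.of_algebraMap_eq' congr($(hb).hom)
  haveI : IsScalarTower A A' C' := IsScalarTower.of_algebraMap_eq' congr($(pf.w).hom)
  haveI : IsScalarTower B B' C' := IsScalarTower.of_algebraMap_eq' congr($(pg.w).hom)
  haveI : Algebra.IsPushout A C A' C' :=
    (CommRingCat.isPushout_iff_isPushout (R := A) (R' := C) (S := A') (S' := C')).1 pf
  haveI : Algebra.IsPushout B C B' C' :=
    (CommRingCat.isPushout_iff_isPushout (R := B) (R' := C) (S := B') (S' := C')).1 pg
  obtain ⟨p₁, p₂⟩ := Ferrand.isPushout_both (R := R) (A := A) (B := B) (C := C) (R' := R') (A' := A') (B' := B')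
    (C' := C') hf h.2 h'.2 h'.1
  exact ⟨(CommRingCat.isPushout_iff_isPushout (R := R) (R' := A) (S := R') (S' := A')).2 p₁,
    (CommRingCat.isPushout_iff_isPushout (R := R) (R' := B) (S := R') (S' := B')).2 p₂⟩

/-- Quasi-finiteness is detected on the factors. -/
theorem FibProp.quasiFinite {R A B C R' A' B' : CommRingCat.{u}}
    {φa : R ⟶ A} {φb : R ⟶ B} {f : A ⟶ C} {g : B ⟶ C} (hw : φa ≫ f = φb ≫ g)
    (h : FibProp φa φb f g) (hf : Function.Surjective f)
    {φa' : R' ⟶ A'} {φb' : R' ⟶ B'} {ρ : R ⟶ R'} {α : A ⟶ A'} {β : B ⟶ B'}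
    (pA : IsPushout φa ρ α φa') (pB : IsPushout φb ρ β φb')
    (hα : α.hom.QuasiFinite) (hβ : β.hom.QuasiFinite) : ρ.hom.QuasiFinite := by
  algebraize [φa.hom, φb.hom, f.hom, g.hom, f.hom.comp φa.hom, ρ.hom, α.hom, β.hom, φa'.hom, φb'.hom,
    α.hom.comp φa.hom, β.hom.comp φb.hom]
  haveI : IsScalarTower R B C := IsScalarTower.of_algebraMap_eq' congr($(hw).hom)
  haveI : IsScalarTower R R' A' := IsScalarTower.of_algebraMap_eq' congr($(pA.w).hom)
  haveI : IsScalarTower R R' B' := IsScalarTower.of_algebraMap_eq' congr($(pB.w).hom)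
  haveI : Algebra.IsPushout R A R' A' := (CommRingCat.isPushout_iff_isPushout (R := R) (R' := A) (S := R') (S' := A')).1 pA
  haveI : Algebra.IsPushout R B R' B' := (CommRingCat.isPushout_iff_isPushout (R := R) (R' := B) (S := R') (S' := B')).1 pB
  haveI : Algebra.QuasiFinite A A' := hα
  haveI : Algebra.QuasiFinite B B' := hβ
  show Algebra.QuasiFinite R R'
  exact quasiFinite_of_square (A := A) (B := B) (C := C) (A' := A') (B' := B') hf h.2 h.1

end Groth.Agent.Hopf35.Ferrand
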