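import Groth.Agent.Hopf35.Ferrand.Ring
import Groth.Agent.Pinch2.Maps
import Groth.Agent.Pinch2.Pairs
import Mathlib

/-!
Morphisms of Ferrand pushouts along a closed immersion and an affine morphism, cartesian over both legs:
the squares comparing the pushouts are cartesian and quasi-finiteness passes to the map of pushouts.
-/

set_option autoImplicit false
set_option linter.style.haveILetI false
set_option backward.isDefEq.respectTransparency.types false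

universe u

open CategoryTheory CategoryTheory.Limits AlgebraicGeometry TopologicalSpace

noncomputable section

namespace Groth.Agent.Hopf35.Ferrand

open Pinch2

/-- A commutative square with affine horizontal arrows which is cocartesian on affine opens is cartesian. -/
theorem isPullback_of_isPushout_app {Q' Q P' P : Scheme.{u}} {u : Q' ⟶ Q} {t : Q' ⟶ P'} {s : Q ⟶ P} {h : P' ⟶ P}
    [IsAffineHom s] [IsAffineHom t] (w : u ≫ s = t ≫ h)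
    (hpo : ∀ {V : P.Opens} {W : P'.Opens}, IsAffineOpen V → IsAffineOpen W → ∀ (e : W ≤ h ⁻¹ᵁ V)
      (eQ : t ⁻¹ᵁ W ≤ u ⁻¹ᵁ (s ⁻¹ᵁ V)),
      IsPushout (s.app V) (h.appLE V W e) (u.appLE (s ⁻¹ᵁ V) (t ⁻¹ᵁ W) eQ) (t.app W)) :
    IsPullback u t s h := by
  let m : Q' ⟶ pullback s h := pullback.lift u t w
  haveI : IsAffineHom (pullback.snd s h) := MorphismProperty.pullback_snd _ _ inferInstance
  haveI : IsAffineHom (m ≫ pullback.snd s h) := by rw [pullback.lift_snd]; infer_instance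
  haveI : IsAffineHom m := IsAffineHom.of_comp m (pullback.snd s h)
  suffices IsIso m from IsPullback.of_iso_pullback ⟨w⟩ (asIso m) (pullback.lift_fst _ _ _) (pullback.lift_snd _ _ _)
  let Idx := {VW : P.affineOpens × P'.affineOpens // VW.2.1 ≤ h ⁻¹ᵁ VW.1.1}
  let O : Idx → (pullback s h).Opens := fun k => pullback.snd s h ⁻¹ᵁ k.1.2.1
  have hcov : iSup O = ⊤ := by
    refine top_le_iff.1 fun z _ => ?_
    obtain ⟨V, hV, hzV, -⟩ := exists_isAffineOpen_mem_and_subset (x := h (pullback.snd s h z))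
      (U := (⊤ : P.Opens)) trivial
    obtain ⟨W, hW, hzW, e⟩ := exists_isAffineOpen_mem_and_subset (x := pullback.snd s h z) (U := h ⁻¹ᵁ V) hzV
    exact Opens.mem_iSup.2 ⟨⟨(⟨V, hV⟩, ⟨W, hW⟩), e⟩, hzW⟩
  refine (IsZariskiLocalAtTarget.iff_of_iSup_eq_top (P := MorphismProperty.isomorphisms Scheme) O hcov).2 fun k => ?_
  obtain ⟨⟨⟨V, hV⟩, ⟨W, hW⟩⟩, e⟩ := k
  have e' : W ≤ h ⁻¹ᵁ V := e
  show IsIso (m ∣_ (pullback.snd s h ⁻¹ᵁ W))
  rw [isIso_morphismRestrict_iff_isIso_app m (hW.preimage _)]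
  have hsq : IsPullback (pullback.fst s h) (pullback.snd s h) s h := IsPullback.of_hasPullback s h
  have eP : pullback.snd s h ⁻¹ᵁ W ≤ pullback.fst s h ⁻¹ᵁ (s ⁻¹ᵁ V) := by
    rw [← Scheme.Hom.comp_preimage, pullback.condition, Scheme.Hom.comp_preimage]
    exact (pullback.snd s h).preimage_mono e'
  have hUY : pullback.snd s h ⁻¹ᵁ W = pullback.fst s h ⁻¹ᵁ (s ⁻¹ᵁ V) ⊓ pullback.snd s h ⁻¹ᵁ W :=
    (inf_eq_right.2 eP).symm
  have p₁ := (isIso_pushoutSection_iff hsq e' le_rfl hUY).1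
    (isIso_pushoutSection_of_isAffineOpen hsq e' le_rfl hUY hV hW (hV.preimage s))
  have ht : m ⁻¹ᵁ (pullback.snd s h ⁻¹ᵁ W) = t ⁻¹ᵁ W := by
    rw [← Scheme.Hom.comp_preimage, pullback.lift_snd]
  have eQ : t ⁻¹ᵁ W ≤ u ⁻¹ᵁ (s ⁻¹ᵁ V) := by
    rw [← Scheme.Hom.comp_preimage, w, Scheme.Hom.comp_preimage]
    exact t.preimage_mono e'
  have p₂ := hpo hV hW e' eQ
  rw [Scheme.Hom.app_eq_appLE, Scheme.Hom.app_eq_appLE] at p₂
  have happ : ∀ (hle : t ⁻¹ᵁ W ≤ m ⁻¹ᵁ (pullback.snd s h ⁻¹ᵁ W)),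
      IsIso (m.appLE (pullback.snd s h ⁻¹ᵁ W) (t ⁻¹ᵁ W) hle) := by
    intro hle
    have : m.appLE (pullback.snd s h ⁻¹ᵁ W) (t ⁻¹ᵁ W) hle = (p₁.isoIsPushout _ _ p₂).hom := by
      refine p₁.hom_ext ?_ ?_
      · rw [IsPushout.inl_isoIsPushout_hom, Scheme.Hom.appLE_comp_appLE]
        simp only [m, pullback.lift_fst]
      · rw [IsPushout.inr_isoIsPushout_hom, Scheme.Hom.appLE_comp_appLE]
        simp only [m, pullback.lift_snd]
    rw [this]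
    infer_instance
  have : ∀ (U' : Q'.Opens) (hU : m ⁻¹ᵁ (pullback.snd s h ⁻¹ᵁ W) = U'),
      IsIso (m.appLE (pullback.snd s h ⁻¹ᵁ W) U' hU.ge) → IsIso (m.app (pullback.snd s h ⁻¹ᵁ W)) := by
    rintro U' rfl hi
    rwa [Scheme.Hom.app_eq_appLE]
  exact this _ ht (happ _)

variable {X Y Z P₀ X' Y' Z' P' : Scheme.{u}} {i : Z ⟶ X} {j : Z ⟶ Y} [IsClosedImmersion i] [IsAffineHom j]
  (H : HasPairs i j)
  {a : X ⟶ P₀} {b : Y ⟶ P₀} (hP : IsPushout i j a b)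
  {f : X' ⟶ X} {g : Y' ⟶ Y} {i' : Z' ⟶ X'} {j' : Z' ⟶ Y'} {c : Z' ⟶ Z} [IsClosedImmersion i'] [IsAffineHom j']
  (hX : IsPullback i' c f i) (hY : IsPullback j' c g j)
  (H' : HasPairs i' j') {a' : X' ⟶ P'} {b' : Y' ⟶ P'} (hP' : IsPushout i' j' a' b')
  {h : P' ⟶ P₀} (ha : a' ≫ h = f ≫ a) (hb : b' ≫ h = g ≫ b)

include H hP hX hY H' hP' ha hb

/-- The data over a pair of affine opens. -/
lemma exists_chart_data {V : P₀.Opens} {W : P'.Opens} (hV : IsAffineOpen V) (hW : IsAffineOpen W)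
    (e : W ≤ h ⁻¹ᵁ V) :
    IsAffineOpen (a ⁻¹ᵁ V) ∧ IsAffineOpen (b ⁻¹ᵁ V) ∧ IsAffineOpen (a' ⁻¹ᵁ W) ∧ IsAffineOpen (b' ⁻¹ᵁ W) ∧
    Function.Surjective (i.appLE (a ⁻¹ᵁ V) (i ⁻¹ᵁ (a ⁻¹ᵁ V)) le_rfl) ∧
    ∃ (eX : a' ⁻¹ᵁ W ≤ f ⁻¹ᵁ (a ⁻¹ᵁ V)) (eY : b' ⁻¹ᵁ W ≤ g ⁻¹ᵁ (b ⁻¹ᵁ V)),
      IsPushout (a.app V) (h.appLE V W e) (f.appLE (a ⁻¹ᵁ V) (a' ⁻¹ᵁ W) eX) (a'.app W) ∧
      IsPushout (b.app V) (h.appLE V W e) (g.appLE (b ⁻¹ᵁ V) (b' ⁻¹ᵁ W) eY) (b'.app W) ∧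
      FibAt i j a b hP.w V := by
  haveI := isAffineHom_inl H hP
  haveI := isClosedImmersion_inr H hP
  haveI := isAffineHom_inl H' hP'
  haveI := isClosedImmersion_inr H' hP'
  have eX : a' ⁻¹ᵁ W ≤ f ⁻¹ᵁ (a ⁻¹ᵁ V) := by
    rw [← Scheme.Hom.comp_preimage, ← ha, Scheme.Hom.comp_preimage]
    exact a'.preimage_mono e
  have eY : b' ⁻¹ᵁ W ≤ g ⁻¹ᵁ (b ⁻¹ᵁ V) := by
    rw [← Scheme.Hom.comp_preimage, ← hb, Scheme.Hom.comp_preimage]
    exact b'.preimage_mono e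
  have hi : Function.Surjective (i.appLE (a ⁻¹ᵁ V) (i ⁻¹ᵁ (a ⁻¹ᵁ V)) le_rfl) := by
    rw [← Scheme.Hom.app_eq_appLE]
    exact app_surjective_of_closedImmersion i (hV.preimage a)
  refine ⟨hV.preimage a, hV.preimage b, hW.preimage a', hW.preimage b', hi, eX, eY, ?_⟩
  have hfib := fibAt_of_isPushout H hP hV
  have hfib' := fibAt_of_isPushout H' hP' hW
  have hjZ := preimage_le hP.w V
  have hjZ' := preimage_le hP'.w W
  have eC : i' ⁻¹ᵁ (a' ⁻¹ᵁ W) ≤ c ⁻¹ᵁ (i ⁻¹ᵁ (a ⁻¹ᵁ V)) := by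
    rw [← Scheme.Hom.comp_preimage c i, ← hX.w, Scheme.Hom.comp_preimage]
    exact i'.preimage_mono eX
  have pX := (isIso_pushoutSection_iff hX le_rfl eX (inf_eq_left.2 eC).symm).1
    (isIso_pushoutSection_of_isAffineOpen hX le_rfl eX (inf_eq_left.2 eC).symm (hV.preimage a)
      ((hV.preimage a).preimage i) (hW.preimage a'))
  have hUY : i' ⁻¹ᵁ (a' ⁻¹ᵁ W) = j' ⁻¹ᵁ (b' ⁻¹ᵁ W) ⊓ c ⁻¹ᵁ (i ⁻¹ᵁ (a ⁻¹ᵁ V)) := by
    rw [← hjZ']; exact (inf_eq_left.2 eC).symm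
  have pY := (isIso_pushoutSection_iff hY hjZ.le eY hUY).1
    (isIso_pushoutSection_of_isAffineOpen hY hjZ.le eY hUY (hV.preimage b)
      ((hV.preimage a).preimage i) (hW.preimage b'))
  have wV : a.app V ≫ i.appLE (a ⁻¹ᵁ V) (i ⁻¹ᵁ (a ⁻¹ᵁ V)) le_rfl =
      b.app V ≫ j.appLE (b ⁻¹ᵁ V) (i ⁻¹ᵁ (a ⁻¹ᵁ V)) hjZ.le := by
    simp only [Scheme.Hom.app_eq_appLE, Scheme.Hom.appLE_comp_appLE, hP.w]
  have wW : a'.app W ≫ i'.appLE (a' ⁻¹ᵁ W) (i' ⁻¹ᵁ (a' ⁻¹ᵁ W)) le_rfl =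
      b'.app W ≫ j'.appLE (b' ⁻¹ᵁ W) (i' ⁻¹ᵁ (a' ⁻¹ᵁ W)) hjZ'.le := by
    simp only [Scheme.Hom.app_eq_appLE, Scheme.Hom.appLE_comp_appLE, hP'.w]
  have hA : a.app V ≫ f.appLE (a ⁻¹ᵁ V) (a' ⁻¹ᵁ W) eX = h.appLE V W e ≫ a'.app W := by
    simp only [Scheme.Hom.app_eq_appLE, Scheme.Hom.appLE_comp_appLE, ha]
  have hB : b.app V ≫ g.appLE (b ⁻¹ᵁ V) (b' ⁻¹ᵁ W) eY = h.appLE V W e ≫ b'.app W := by
    simp only [Scheme.Hom.app_eq_appLE, Scheme.Hom.appLE_comp_appLE, hb]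
  obtain ⟨p₁, p₂⟩ := FibProp.isPushout_both wV hfib wW hfib' hi hA hB pX.flip pY.flip
  exact ⟨p₁, p₂, hfib⟩

/-- The square over the closed leg is cartesian. -/
theorem isPullback_inl : IsPullback f a' a h := by
  haveI := isAffineHom_inl H hP
  haveI := isAffineHom_inl H' hP'
  refine isPullback_of_isPushout_app ha.symm fun {V W} hV hW e eQ => ?_
  obtain ⟨-, -, -, -, -, eX, eY, p₁, p₂, -⟩ := exists_chart_data H hP hX hY H' hP' ha hb hV hW e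
  exact p₁

/-- The square over the other leg is cartesian. -/
theorem isPullback_inr : IsPullback g b' b h := by
  haveI := isClosedImmersion_inr H hP
  haveI := isClosedImmersion_inr H' hP'
  refine isPullback_of_isPushout_app hb.symm fun {V W} hV hW e eQ => ?_
  obtain ⟨-, -, -, -, -, eX, eY, p₁, p₂, -⟩ := exists_chart_data H hP hX hY H' hP' ha hb hV hW e
  exact p₂

/-- The map of pushouts is locally of finite type if both maps are. -/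
theorem locallyOfFiniteType_map [LocallyOfFiniteType f] [LocallyOfFiniteType g] : LocallyOfFiniteType h := by
  rw [HasRingHomProperty.iff_appLE (P := @LocallyOfFiniteType)]
  intro ⟨V, hV⟩ ⟨W, hW⟩ e
  obtain ⟨hA, hB, hA', hB', hi, eX, eY, p₁, p₂, hfib⟩ := exists_chart_data H hP hX hY H' hP' ha hb hV hW e
  refine (Pinch2.FibProp.descend ?_ hfib hi p₁ p₂).1
    (HasRingHomProperty.appLE @LocallyOfFiniteType f inferInstance ⟨_, hA⟩ ⟨_, hA'⟩ eX)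
    (HasRingHomProperty.appLE @LocallyOfFiniteType g inferInstance ⟨_, hB⟩ ⟨_, hB'⟩ eY)
  simp only [Scheme.Hom.app_eq_appLE, Scheme.Hom.appLE_comp_appLE, hP.w]

/-- The map of pushouts is locally quasi-finite if both maps are. -/
theorem locallyQuasiFinite_map [LocallyQuasiFinite f] [LocallyQuasiFinite g] : LocallyQuasiFinite h := by
  rw [HasRingHomProperty.iff_appLE (P := @LocallyQuasiFinite)]
  intro ⟨V, hV⟩ ⟨W, hW⟩ e
  obtain ⟨hA, hB, hA', hB', hi, eX, eY, p₁, p₂, hfib⟩ := exists_chart_data H hP hX hY H' hP' ha hb hV hW e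
  refine FibProp.quasiFinite ?_ hfib hi p₁ p₂
    (HasRingHomProperty.appLE @LocallyQuasiFinite f inferInstance ⟨_, hA⟩ ⟨_, hA'⟩ eX)
    (HasRingHomProperty.appLE @LocallyQuasiFinite g inferInstance ⟨_, hB⟩ ⟨_, hB'⟩ eY)
  simp only [Scheme.Hom.app_eq_appLE, Scheme.Hom.appLE_comp_appLE, hP.w]

omit H hP hX hY H' hP' ha hb [IsClosedImmersion i] [IsAffineHom j] [IsClosedImmersion i'] [IsAffineHom j']

/-- Over a prime of the base, a quasi-compact image in a quasi-affine open lies in a principal open. -/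
theorem exists_mem_avoid {A D C : Type u} [CommRing A] [CommRing D] [CommRing C] [Algebra D C]
    [Algebra.IsIntegral D C] (ρ : A →+* C) (J : Ideal A) (hJ : J.map ρ = ⊤) (q : Ideal D) [q.IsPrime] :
    ∃ x ∈ J, ∀ (Q : Ideal C) [Q.IsPrime], Q.comap (algebraMap D C) = q → ρ x ∉ Q := by
  classical
  obtain ⟨n, t, c, ht, hsum⟩ : ∃ (n : ℕ) (t : Fin n → A) (c : Fin n → C), (∀ k, t k ∈ J) ∧ ∑ k, c k * ρ (t k) = 1 := by
    have h1 : (1 : C) ∈ Submodule.span C (ρ '' (J : Set A)) := by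
      show (1 : C) ∈ J.map ρ
      rw [hJ]; trivial
    obtain ⟨n, c, t', hs⟩ := Submodule.mem_span_set'.1 h1
    choose t ht using fun k => (t' k).2
    refine ⟨n, t, c, fun k => (ht k).1, ?_⟩
    simp only [(ht _).2]
    simpa only [smul_eq_mul] using hs
  let S : Subalgebra ℤ A := Algebra.adjoin ℤ (Set.range t)
  let C₀ : Subalgebra D C := Algebra.adjoin D (Set.range fun k => ρ (t k))
  haveI : Module.Finite D C₀ := Module.Finite.iff_fg.2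
    (fg_adjoin_of_finite (Set.finite_range _) fun x _ => Algebra.IsIntegral.isIntegral x)
  have hmap : ∀ s : S, ρ s.1 ∈ C₀ := by
    rintro ⟨s, hs⟩
    induction hs using Algebra.adjoin_induction with
    | mem x hx =>
      obtain ⟨k, rfl⟩ := hx
      exact Algebra.subset_adjoin ⟨k, rfl⟩
    | algebraMap r => simp
    | add x y _ _ hx hy => rw [map_add]; exact add_mem hx hy
    | mul x y _ _ hx hy => rw [map_mul]; exact mul_mem hx hy
  let θ : S →+* C₀ := (ρ.comp S.toSubring.subtype).codRestrict C₀ hmap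
  let bad : Set (Ideal S) := (fun Q : Ideal C₀ => Q.comap θ) '' q.primesOver C₀
  have hbad : bad.Finite := (Algebra.QuasiFinite.finite_primesOver (R := D) (S := C₀) q).image _
  let I : Ideal S := Ideal.span (Set.range fun k => (⟨t k, Algebra.subset_adjoin ⟨k, rfl⟩⟩ : S))
  haveI : Algebra.IsIntegral C₀ C := Algebra.IsIntegral.tower_top D
  obtain ⟨x, hxI, hxbad⟩ : ∃ x ∈ I, ∀ P ∈ bad, x ∉ P := by
    by_contra hcon
    push Not at hcon
    have hcov : (I : Set S) ⊆ ⋃ P ∈ bad, (P : Set S) := fun x hx => by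
      obtain ⟨P, hP, hxP⟩ := hcon x hx
      exact Set.mem_biUnion hP hxP
    obtain ⟨P, hP, hIP⟩ := (Ideal.subset_union_prime_finite hbad ⊤ ⊤ (fun P hP _ _ => by
      obtain ⟨Q, hQ, rfl⟩ := hP
      haveI := hQ.1
      exact Ideal.comap_isPrime _ _)).1 hcov
    obtain ⟨Q, hQ, rfl⟩ := hP
    haveI := hQ.1
    obtain ⟨Q', -, hQ', hQ'c⟩ := Ideal.exists_ideal_over_prime_of_isIntegral (R := C₀) (S := C) Q ⊥ (by
      rw [← RingHom.ker_eq_comap_bot, (RingHom.injective_iff_ker_eq_bot _).1 Subtype.val_injective]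
      exact bot_le)
    refine hQ'.ne_top ((Ideal.eq_top_iff_one _).2 ?_)
    rw [← hsum]
    refine Ideal.sum_mem _ fun k _ => Ideal.mul_mem_left _ _ ?_
    have : θ ⟨t k, Algebra.subset_adjoin ⟨k, rfl⟩⟩ ∈ Q := hIP (Ideal.subset_span ⟨k, rfl⟩)
    rw [← hQ'c] at this
    exact this
  refine ⟨x.1, ?_, fun Q _ hQ hxQ => hxbad _ ⟨Q.comap (algebraMap C₀ C), ⟨Ideal.comap_isPrime _ _, ⟨?_⟩⟩, rfl⟩ hxQ⟩
  · refine (Ideal.span_le (I := J.comap S.toSubring.subtype)).2 ?_ hxI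
    rintro _ ⟨k, rfl⟩
    exact ht k
  · rw [Ideal.under_def, Ideal.comap_comap, ← IsScalarTower.algebraMap_eq, hQ]

/-- A point of the base of an integral morphism has its fibre in an affine open of a quasi-affine target. -/
theorem exists_affine_of_quasiAffine {V N Z Y : Scheme.{u}} [IsAffine N] (ι : V ⟶ N) [IsOpenImmersion ι]
    [IsAffine Y] (φ : Z ⟶ V) (ψ : Z ⟶ Y) [IsIntegralHom ψ] (y : Y) :
    ∃ U : V.Opens, IsAffineOpen U ∧ ψ ⁻¹' {y} ⊆ φ ⁻¹' (U : Set V) := by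
  haveI : IsAffine Z := isAffine_of_isAffineHom ψ
  let eN := N.isoSpec
  let ι' := ι ≫ eN.hom
  obtain ⟨J, hJ⟩ := (PrimeSpectrum.isClosed_iff_zeroLocus_ideal ((ι'.opensRange : Set (Spec Γ(N, ⊤)))ᶜ)).1
    ι'.opensRange.2.isClosed_compl
  let φ' := Z.isoSpec.inv ≫ φ ≫ ι'
  obtain ⟨ρ, hρ⟩ : ∃ ρ : Γ(N, ⊤) ⟶ Γ(Z, ⊤), Spec.map ρ = φ' := ⟨Spec.preimage φ', Spec.map_preimage _⟩
  have hJtop : J.map ρ.hom = ⊤ := by
    by_contra h
    obtain ⟨Q, hQ, hJQ⟩ := Ideal.exists_le_maximal _ h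
    have hmem : (Spec.map ρ) (⟨Q, hQ.isPrime⟩ : PrimeSpectrum _) ∈ ((ι'.opensRange : Set (Spec Γ(N, ⊤)))ᶜ) :=
      hJ.ge fun x hx => hJQ (Ideal.mem_map_of_mem _ hx)
    refine hmem ?_
    rw [hρ]
    exact ⟨φ (Z.isoSpec.inv (⟨Q, hQ.isPrime⟩ : PrimeSpectrum _)), rfl⟩
  letI := ψ.appTop.hom.toAlgebra
  haveI : Algebra.IsIntegral Γ(Y, ⊤) Γ(Z, ⊤) := ⟨IsIntegralHom.isIntegral_app ψ ⊤ (isAffineOpen_top Y)⟩
  obtain ⟨x, hxJ, hx⟩ := exists_mem_avoid ρ.hom J hJtop (Y.isoSpec.hom y).asIdeal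
  let D : (Spec Γ(N, ⊤)).Opens := PrimeSpectrum.basicOpen x
  have hD : D ≤ ι'.opensRange := fun z hz => by
    by_contra h
    have hzJ : z ∈ PrimeSpectrum.zeroLocus (J : Set Γ(N, ⊤)) := by rw [← hJ]; exact h
    exact hz (hzJ hxJ)
  refine ⟨ι' ⁻¹ᵁ D, IsAffineOpen.preimage_of_isOpenImmersion ?_ ι' hD, fun z hz => ?_⟩
  · exact AlgebraicGeometry.IsAffineOpen.Spec_basicOpen x
  show ι' (φ z) ∈ D
  have hcomp : ι' (φ z) = Spec.map ρ (Z.isoSpec.hom z) := by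
    rw [hρ, ← Scheme.Hom.comp_apply, ← Scheme.Hom.comp_apply]
    simp [φ']
  rw [hcomp]
  refine fun hxz => hx (Z.isoSpec.hom z).asIdeal ?_ hxz
  have : Spec.map ψ.appTop (Z.isoSpec.hom z) = Y.isoSpec.hom y := by
    rw [← Scheme.Hom.comp_apply, Scheme.isoSpec_hom_naturality, Scheme.Hom.comp_apply, Set.mem_singleton_iff.1 hz]
  exact congrArg PrimeSpectrum.asIdeal this

/-- After a separated, locally quasi-finite base change the fibres still lie in affine opens. -/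
theorem exists_affine_fibre {X Y Z X' Y' Z' : Scheme.{u}} {i : Z ⟶ X} {j : Z ⟶ Y}
    (h3 : ∀ y : Y, ∃ U : X.Opens, IsAffineOpen U ∧ j ⁻¹' {y} ⊆ i ⁻¹' (U : Set X))
    {f : X' ⟶ X} [IsSeparated f] [LocallyQuasiFinite f] [LocallyOfFiniteType f] {g : Y' ⟶ Y}
    {i' : Z' ⟶ X'} {j' : Z' ⟶ Y'} {c : Z' ⟶ Z} [IsIntegralHom j']
    (wX : i' ≫ f = c ≫ i) (wY : j' ≫ g = c ≫ j) (y' : Y') :
    ∃ U : X'.Opens, IsAffineOpen U ∧ j' ⁻¹' {y'} ⊆ i' ⁻¹' (U : Set X') := by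
  obtain ⟨U, hU, hfib⟩ := h3 (g y')
  obtain ⟨V₁, hV₁, hyV₁, -⟩ := exists_isAffineOpen_mem_and_subset (x := y') (U := (⊤ : Y'.Opens)) trivial
  let K : Set Z' := j' ⁻¹' {y'}
  have hK : IsCompact K := j'.isCompact_preimage_singleton y'
  let T : Set X' := i' '' K
  have hT : IsCompact T := hK.image i'.continuous
  have hTsub : T ⊆ (f ⁻¹ᵁ U : Set X') := by
    rintro _ ⟨z, hz, rfl⟩
    have hc : c z ∈ j ⁻¹' {g y'} := by
      show j (c z) = g y'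
      rw [← Scheme.Hom.comp_apply, ← wY, Scheme.Hom.comp_apply, Set.mem_singleton_iff.1 hz]
    show f (i' z) ∈ U
    rw [← Scheme.Hom.comp_apply, wX, Scheme.Hom.comp_apply]
    exact hfib hc
  -- a quasi-compact open around the fibre
  obtain ⟨O, hOc, hTO, hOU⟩ : ∃ O : X'.Opens, IsCompact (O : Set X') ∧ T ⊆ O ∧ O ≤ f ⁻¹ᵁ U := by
    choose W hW hxW hWU using fun x : T =>
      exists_isAffineOpen_mem_and_subset (x := x.1) (U := f ⁻¹ᵁ U) (hTsub x.2)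
    obtain ⟨s, hs⟩ := hT.elim_finite_subcover (fun x : T => (W x : Set X')) (fun x => (W x).2)
      fun x hx => Set.mem_iUnion.2 ⟨⟨x, hx⟩, hxW ⟨x, hx⟩⟩
    refine ⟨s.sup W, ?_, fun x hx => ?_, Finset.sup_le fun x _ => hWU x⟩
    · rw [Opens.coe_finset_sup, Finset.sup_set_eq_biUnion]
      exact s.isCompact_biUnion fun x _ => (hW x).isCompact
    · obtain ⟨y, hy, hxy⟩ := Set.mem_iUnion₂.1 (hs hx)
      exact (Finset.le_sup hy : W y ≤ s.sup W) hxy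
  haveI : IsAffine U.toScheme := hU
  let f₀ : O.toScheme ⟶ U.toScheme := f.resLE U O hOU
  haveI : CompactSpace O.toScheme := isCompact_iff_compactSpace.1 hOc
  haveI : QuasiCompact f₀ := (quasiCompact_iff_compactSpace f₀).2 inferInstance
  haveI : IsSeparated f₀ := inferInstance
  haveI : IsAffine f₀.normalization := isAffine_of_isAffineHom f₀.fromNormalization
  -- an affine neighbourhood downstairs whose preimage maps into the quasi-compact open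
  let N₁ : Y'.Opens := ⟨(j' '' (i' ⁻¹ᵁ O : Set Z')ᶜ)ᶜ,
    (j'.isClosedMap _ (i' ⁻¹ᵁ O).2.isClosed_compl).isOpen_compl⟩
  have hyN : y' ∈ N₁ := by
    rintro ⟨z, hz, hzy⟩
    exact hz (hTO ⟨z, hzy, rfl⟩)
  obtain ⟨V, hV, hyV, hVN⟩ := exists_isAffineOpen_mem_and_subset (x := y') (U := N₁) hyN
  have hZO : j' ⁻¹ᵁ V ≤ i' ⁻¹ᵁ O := fun z hz => by_contra fun h => hVN hz ⟨z, h, rfl⟩
  haveI : IsAffine V.toScheme := hV
  haveI : IsIntegralHom (j' ∣_ V) := IsZariskiLocalAtTarget.restrict ‹_› V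
  obtain ⟨U₁, hU₁, hsub⟩ := exists_affine_of_quasiAffine f₀.toNormalization
    (i'.resLE O (j' ⁻¹ᵁ V) hZO) (j' ∣_ V) ⟨y', hyV⟩
  refine ⟨O.ι ''ᵁ U₁, hU₁.image_of_isOpenImmersion _, fun z hz => ?_⟩
  have hzV : z ∈ j' ⁻¹ᵁ V := by
    show j' z ∈ V
    rw [Set.mem_singleton_iff.1 hz]
    exact hyV
  have hz₁ : i'.resLE O (j' ⁻¹ᵁ V) hZO ⟨z, hzV⟩ ∈ U₁ := hsub (by
    show (j' ∣_ V) ⟨z, hzV⟩ = ⟨y', hyV⟩
    exact Subtype.ext (by simpa using hz))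
  show i' z ∈ (O.ι ''ᵁ U₁ : Set X')
  refine ⟨_, hz₁, ?_⟩
  show (i'.resLE O (j' ⁻¹ᵁ V) hZO ≫ O.ι) ⟨z, hzV⟩ = i' z
  rw [Scheme.Hom.resLE_comp_ι]
  rfl

end Groth.Agent.Hopf35.Ferrand
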